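import Groth.Agent.FMKernel.RightExact
import Groth.Agent.PerfGen7.FlatOverTensor
import Groth.Agent.QCoh.RpushGod
import Groth.Prelude.Def_Coh

/-!
# The functor attached to a flat acyclic kernel is exact
-/

set_option autoImplicit false
set_option linter.style.haveILetI false
set_option backward.isDefEq.respectTransparency false
set_option backward.isDefEq.respectTransparency.types false

universe u

open CategoryTheory CategoryTheory.Limits AlgebraicGeometry

namespace Groth.Agent.FMKernel

open Groth.Agent

theorem epi_map_of_isZero_R1 {C D : Type*} [Category C] [Abelian C] [EnoughInjectives C] [Category D] [Abelian D]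
    (F : C ⥤ D) [F.Additive] [PreservesFiniteLimits F] {S : ShortComplex C} (hS : S.ShortExact)
    (h : IsZero ((F.rightDerived 1).obj S.X₁)) : Epi (F.map S.g) := by
  let := HasDerivedCategory.standard C
  let := HasDerivedCategory.standard D
  obtain ⟨δ, w₁, w₂, w₃, -, e₂, e₃⟩ := TriCat.exists_rightDerived_ses F hS 0
  haveI : Epi ((F.rightDerived 0).map S.g) := e₂.epi_f (h.eq_of_tgt _ _)
  exact (((MorphismProperty.epimorphisms D).arrow_mk_iso_iff
    (Arrow.isoMk (F.rightDerivedZeroIsoSelf.app S.X₂) (F.rightDerivedZeroIsoSelf.app S.X₃)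
      (F.rightDerivedZeroIsoSelf.hom.naturality S.g).symm)).1 ‹_›)

variable {X Y P : Scheme.{u}} (p : P ⟶ X) (q : P ⟶ Y) (K : P.Modules)

theorem preservesFinite_of_flat_acyclic [HasInjectiveResolutions P.Modules] (hKf : FlatMod.IsFlatOver p K)
    (hKa : ∀ (M : X.Modules), Coh.IsQCoh M → ∀ n : ℕ, 0 < n →
      IsZero ((Coh.Rpush q n).obj ((DCoh.tensorRightMod K).obj ((Scheme.Modules.pullback p).obj M)))) :
    PreservesFiniteLimits (ObjectProperty.ι (QCohCat.isQCoh X) ⋙
        Scheme.Modules.pullback p ⋙ DCoh.tensorRightMod K ⋙ Coh.push q) ∧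
      PreservesFiniteColimits (ObjectProperty.ι (QCohCat.isQCoh X) ⋙
        Scheme.Modules.pullback p ⋙ DCoh.tensorRightMod K ⋙ Coh.push q) := by
  let H := ObjectProperty.ι (QCohCat.isQCoh X) ⋙ (Scheme.Modules.pullback p ⋙ DCoh.tensorRightMod K)
  haveI hh := PerfGen7.preservesHomology_pullTensor p hKf
  show PreservesFiniteLimits (H ⋙ Scheme.Modules.pushforward q) ∧ PreservesFiniteColimits (H ⋙ Scheme.Modules.pushforward q)
  haveI := SpObjSS.enoughInjectives_of_hasInjectiveResolutions (C := P.Modules)
  haveI := QCoh.preservesFiniteLimits_push q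
  haveI : PreservesFiniteColimits (ObjectProperty.ι (QCohCat.isQCoh X)) :=
    PreservesColimitsOfSize.preservesFiniteColimits _
  haveI : (H ⋙ Scheme.Modules.pushforward q).Additive := inferInstance
  refine (((H ⋙ Scheme.Modules.pushforward q).exact_tfae).out 0 3).1 fun S hS => ?_
  have hT : (S.map H).ShortExact := by
    haveI := hS.mono_f
    haveI := hS.epi_g
    have h1 : (S.map (ObjectProperty.ι (QCohCat.isQCoh X))).ShortExact :=
      hS.map_of_exact (ObjectProperty.ι (QCohCat.isQCoh X))
    haveI := Functor.preservesFiniteLimits_of_preservesHomology (Scheme.Modules.pullback p ⋙ DCoh.tensorRightMod K)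
    haveI := Functor.preservesFiniteColimits_of_preservesHomology (Scheme.Modules.pullback p ⋙ DCoh.tensorRightMod K)
    exact h1.map_of_exact (Scheme.Modules.pullback p ⋙ DCoh.tensorRightMod K)
  haveI : Epi ((Scheme.Modules.pushforward q).map (S.map H).g) :=
    epi_map_of_isZero_R1 _ hT (hKa _ S.X₁.2 1 Nat.one_pos)
  haveI := hT.mono_f
  exact { exact := hT.exact.map_of_mono_of_preservesKernel (Scheme.Modules.pushforward q) inferInstance inferInstance,
          mono_f := inferInstanceAs (Mono ((Scheme.Modules.pushforward q).map (S.map H).f)),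
          epi_g := ‹_› }

end Groth.Agent.FMKernel
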