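import Groth.Agent.QCohSupX.Groth
import Groth.Agent.KFlatLib.Scheme.PushCoprod
import Groth.Agent.KFlatLib.Scheme.InnerHom
import Groth.Agent.KFlatLib.Scheme.QCohTensor
import Groth.Agent.AmpleVan.AdicBase
import Mathlib.Algebra.Homology.ShortComplex.ExactFunctor
import Groth.Prelude.Def_DDual2

/-!
# The functor attached to a kernel with affine projection is right exact
-/

set_option autoImplicit false
set_option linter.style.haveILetI false
set_option backward.isDefEq.respectTransparency false
set_option backward.isDefEq.respectTransparency.types false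

universe u

open CategoryTheory CategoryTheory.Limits AlgebraicGeometry

namespace Groth.Agent.FMKernel

open Groth.Agent

/-- `M ↦ M ⊗ K` agrees with the flipped bifunctor. -/
noncomputable def tensorRightModIso {P : Scheme.{u}} (K : P.Modules) :
    (DCoh.tensorBi (X := P)).flip.obj K ≅ DCoh.tensorRightMod K :=
  NatIso.ofComponents (fun _ => Iso.refl _) (fun g => by
    simp only [Iso.refl_hom, Category.comp_id, Category.id_comp]
    rfl)

theorem preservesColimitsOfShape_tensorRightMod {P : Scheme.{u}} (K : P.Modules) (J : Type u) [SmallCategory J] :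
    PreservesColimitsOfShape J (DCoh.tensorRightMod K) :=
  preservesColimitsOfShape_of_natIso (tensorRightModIso K)

theorem isQCoh_tensorRightMod {P : Scheme.{u}} {K M : P.Modules} (hM : Coh.IsQCoh M) (hK : Coh.IsQCoh K) :
    Coh.IsQCoh ((DCoh.tensorRightMod K).obj M) :=
  KFlatLib.isQCoh_tensor hM hK

variable {X Y P : Scheme.{u}} (p : P ⟶ X) (q : P ⟶ Y) (K : P.Modules)

theorem preservesColimitsOfShape_discrete [QuasiCompact q] (J : Type u) :
    PreservesColimitsOfShape (Discrete J) (ObjectProperty.ι (QCohCat.isQCoh X) ⋙
      Scheme.Modules.pullback p ⋙ DCoh.tensorRightMod K ⋙ Coh.push q) := by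
  haveI := preservesColimitsOfShape_tensorRightMod K (Discrete J)
  haveI : PreservesColimitsOfShape (Discrete J) (Coh.push q) :=
    KFlatLib.preservesColimitsOfShape_push_discrete q
  infer_instance

theorem preservesFiniteColimits [IsAffineHom q] (hK : Coh.IsQCoh K) :
    PreservesFiniteColimits (ObjectProperty.ι (QCohCat.isQCoh X) ⋙
      Scheme.Modules.pullback p ⋙ DCoh.tensorRightMod K ⋙ Coh.push q) := by
  let H := ObjectProperty.ι (QCohCat.isQCoh X) ⋙ Scheme.Modules.pullback p ⋙ DCoh.tensorRightMod K
  haveI : PreservesFiniteColimits H := by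
    haveI : ∀ (J : Type) [SmallCategory J] [FinCategory J], PreservesColimitsOfShape J H := fun J _ _ => by
      haveI : PreservesColimitsOfShape J (DCoh.tensorRightMod K) := by
        haveI : PreservesColimitsOfSize.{u, u} (DCoh.tensorRightMod K) :=
          ⟨fun {J'} _ => preservesColimitsOfShape_tensorRightMod K J'⟩
        haveI : PreservesFiniteColimits (DCoh.tensorRightMod K) :=
          PreservesColimitsOfSize.preservesFiniteColimits _
        infer_instance
      haveI : PreservesFiniteColimits (ObjectProperty.ι (QCohCat.isQCoh X)) :=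
        PreservesColimitsOfSize.preservesFiniteColimits _
      haveI : PreservesFiniteColimits (Scheme.Modules.pullback p) :=
        PreservesColimitsOfSize.preservesFiniteColimits _
      infer_instance
    exact ⟨fun J _ _ => inferInstance⟩
  haveI : H.Additive := inferInstance
  show PreservesFiniteColimits (H ⋙ Scheme.Modules.pushforward q)
  haveI : (H ⋙ Scheme.Modules.pushforward q).Additive := inferInstance
  refine ((Functor.preservesFiniteColimits_tfae (H ⋙ Scheme.Modules.pushforward q)).out 0 3).1 fun S hS => ?_
  haveI := hS.mono_f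
  haveI := hS.epi_g
  let T := S.map H
  have hT : T.Exact := hS.exact.map_of_epi_of_preservesCokernel H inferInstance inferInstance
  haveI : Epi T.g := H.map_epi S.g
  have hq : ∀ M, Coh.IsQCoh (H.obj M) := fun M => isQCoh_tensorRightMod (QCoh.isQCoh_pullback p M.2) hK
  let I := kernel T.g
  have hI : Coh.IsQCoh I := QCoh.isQCoh_kernel (hq _) (hq _) _
  let e : T.X₁ ⟶ I := kernel.lift T.g T.f T.zero
  haveI : Epi e := (ShortComplex.exact_iff_epi_kernel_lift T).1 hT
  haveI : Epi ((Scheme.Modules.pushforward q).map e) := AmpleVan.epi_push q (hq _) hI e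
  haveI : Epi ((Scheme.Modules.pushforward q).map T.g) := AmpleVan.epi_push q (hq _) (hq _) T.g
  haveI : PreservesFiniteLimits (Scheme.Modules.pushforward q) := QCoh.preservesFiniteLimits_push q
  refine ⟨?_, ‹_›⟩
  let T' : ShortComplex P.Modules := ShortComplex.mk (kernel.ι T.g) T.g (kernel.condition _)
  have hT' : (T'.map (Scheme.Modules.pushforward q)).Exact := by
    haveI : Mono T'.f := inferInstanceAs (Mono (kernel.ι _))
    exact (ShortComplex.exact_of_f_is_kernel T' (kernelIsKernel T.g)).map_of_mono_of_preservesKernel _
      inferInstance inferInstance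
  let φ : T.map (Scheme.Modules.pushforward q) ⟶ T'.map (Scheme.Modules.pushforward q) :=
    { τ₁ := (Scheme.Modules.pushforward q).map e
      τ₂ := 𝟙 _
      τ₃ := 𝟙 _
      comm₁₂ := by
        show (Scheme.Modules.pushforward q).map e ≫ (Scheme.Modules.pushforward q).map (kernel.ι T.g) =
          (Scheme.Modules.pushforward q).map T.f ≫ 𝟙 _
        rw [← Functor.map_comp, kernel.lift_ι, Category.comp_id] }
  haveI : Epi φ.τ₁ := inferInstanceAs (Epi ((Scheme.Modules.pushforward q).map e))
  haveI : IsIso φ.τ₂ := inferInstanceAs (IsIso (𝟙 _))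
  haveI : Mono φ.τ₃ := inferInstanceAs (Mono (𝟙 _))
  exact (ShortComplex.exact_iff_of_epi_of_isIso_of_mono φ).2 hT'

end Groth.Agent.FMKernel
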